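import Mathlib

/-!
Derived series of subgroups, and of 2-groups with small orbits.
-/

set_option autoImplicit false

namespace CfsgLib.SpSylowTwo

open scoped commutatorElement

variable {G G' : Type*} [Group G] [Group G']

/-- The derived series of a subgroup, as subgroups of the ambient group. -/
def dser (H : Subgroup G) : ℕ → Subgroup G
  | 0 => H
  | L + 1 => ⁅dser H L, dser H L⁆

theorem dser_succ (H : Subgroup G) (L : ℕ) : dser H (L + 1) = dser ⁅H, H⁆ L := by
  induction L with
  | zero => rfl
  | succ L ih => show ⁅dser H (L + 1), dser H (L + 1)⁆ = _; rw [ih]; rfl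

theorem dser_add (H : Subgroup G) (a b : ℕ) : dser H (a + b) = dser (dser H a) b := by
  induction b with
  | zero => rfl
  | succ b ih => show ⁅dser H (a + b), dser H (a + b)⁆ = _; rw [ih]; rfl

theorem dser_mono {H K : Subgroup G} (h : H ≤ K) : ∀ L, dser H L ≤ dser K L
  | 0 => h
  | L + 1 => Subgroup.commutator_mono (dser_mono h L) (dser_mono h L)

theorem map_dser (f : G →* G') (H : Subgroup G) : ∀ L, (dser H L).map f = dser (H.map f) L
  | 0 => rfl
  | L + 1 => by
    show Subgroup.map f ⁅dser H L, dser H L⁆ = ⁅dser (H.map f) L, dser (H.map f) L⁆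
    rw [Subgroup.map_commutator, map_dser f H L]

theorem dser_top : ∀ L, dser (⊤ : Subgroup G) L = derivedSeries G L
  | 0 => rfl
  | L + 1 => by
    show ⁅dser (⊤ : Subgroup G) L, dser (⊤ : Subgroup G) L⁆ = _
    rw [dser_top L, derivedSeries_succ]

theorem map_derivedSeries_subtype (H : Subgroup G) (L : ℕ) :
    (derivedSeries H L).map H.subtype = dser H L := by
  rw [← dser_top, map_dser, ← MonoidHom.range_eq_map, Subgroup.range_subtype]

theorem derivedSeries_eq_bot_iff (H : Subgroup G) (L : ℕ) : derivedSeries H L = ⊥ ↔ dser H L = ⊥ := by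
  rw [← map_derivedSeries_subtype, Subgroup.map_eq_bot_iff_of_injective _ H.subtype_injective]

theorem dser_range (f : G →* G') (L : ℕ) : dser f.range L = (derivedSeries G L).map f := by
  rw [MonoidHom.range_eq_map, ← map_dser, dser_top]

theorem derivedSeries_quaternion (m : ℕ) [NeZero m] : derivedSeries (QuaternionGroup m) 2 = ⊥ := by
  let A : Subgroup (QuaternionGroup m) := Subgroup.zpowers (.a 1)
  have hA : ∀ i, QuaternionGroup.a i ∈ A := fun i =>
    ⟨(i.val : ℤ), show (QuaternionGroup.a 1) ^ (i.val : ℤ) = _ by
      rw [zpow_natCast, QuaternionGroup.a_one_pow, ZMod.natCast_zmod_val]⟩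
  rw [eq_bot_iff, derivedSeries_succ, derivedSeries_succ, derivedSeries_zero]
  let sg : QuaternionGroup m →* Multiplicative (ZMod 2) :=
    { toFun := fun x => match x with
        | .a _ => 1
        | .xa _ => Multiplicative.ofAdd 1
      map_one' := rfl
      map_mul' := by
        rintro (i | i) (j | j) <;> first
          | rfl
          | (show (1 : Multiplicative (ZMod 2)) = Multiplicative.ofAdd 1 * Multiplicative.ofAdd 1; decide) }
  have h1 : ⁅(⊤ : Subgroup (QuaternionGroup m)), ⊤⁆ ≤ A := by
    rw [Subgroup.commutator_le]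
    intro x _ y _
    have h := (map_commutatorElement sg x y).trans (commutatorElement_eq_one_iff_mul_comm.2 (mul_comm _ _))
    rcases hc : ⁅x, y⁆ with i | i
    · exact hA i
    · rw [hc] at h
      exact absurd h (by show Multiplicative.ofAdd (1 : ZMod 2) ≠ 1; decide)
  refine (Subgroup.commutator_mono h1 h1).trans ?_
  rw [Subgroup.commutator_le]
  intro x hx y hy
  obtain ⟨a, rfl⟩ := hx
  obtain ⟨b, rfl⟩ := hy
  rw [Subgroup.mem_bot, commutatorElement_eq_one_iff_mul_comm]
  exact ((Commute.refl (QuaternionGroup.a 1)).zpow_zpow a b).eq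

/-- A 2-group moves nothing beyond step `m` of its derived series on orbits of size at most `2 ^ m`. -/
theorem derivedSeries_fix : ∀ (m : ℕ) (P : Type) [Group P] [Finite P], IsPGroup 2 P →
    ∀ (α : Type) [MulAction P α] [Finite α],
      (∀ x : α, Nat.card (MulAction.orbit P x) ≤ 2 ^ m) → ∀ g ∈ derivedSeries P m, ∀ x : α, g • x = x := by
  intro m
  induction m with
  | zero =>
    intro P _ _ _ α _ _ horb g _ x
    have := Finite.card_le_one_iff_subsingleton.1 (horb x)
    exact congrArg Subtype.val
      (Subsingleton.elim (⟨g • x, MulAction.mem_orbit x g⟩ : MulAction.orbit P x) ⟨x, MulAction.mem_orbit_self x⟩)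
  | succ m ih =>
    intro P _ _ hP α _ _ horb g hg x
    by_cases htop : MulAction.stabilizer P x = ⊤
    · exact (htop ▸ Subgroup.mem_top g : g ∈ MulAction.stabilizer P x)
    obtain ⟨M, hMco, hle⟩ := (eq_top_or_exists_le_coatom (MulAction.stabilizer P x)).resolve_left htop
    haveI := hP.isNilpotent
    have hN : M.Normal := Subgroup.NormalizerCondition.normal_of_coatom M Group.normalizerCondition_of_isNilpotent hMco
    have hidx : 2 ≤ M.index := by
      have h0 : M.index ≠ 0 := Subgroup.index_ne_zero_of_finite
      have h1 : M.index ≠ 1 := fun h => hMco.1 (Subgroup.index_eq_one.1 h)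
      omega
    -- the quotient is abelian, being a simple 2-group
    have hcomm : ⁅(⊤ : Subgroup P), ⊤⁆ ≤ M := by
      haveI : IsSimpleGroup (P ⧸ M) := by
        haveI : Nontrivial (P ⧸ M) := QuotientGroup.nontrivial_iff.2 hMco.1
        exact ⟨fun K hK => by
          rcases eq_or_lt_of_le (show M ≤ K.comap (QuotientGroup.mk' M) from fun a ha => by
            show QuotientGroup.mk' M a ∈ K
            rw [show QuotientGroup.mk' M a = 1 from (QuotientGroup.eq_one_iff a).2 ha]
            exact K.one_mem) with h | h
          · left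
            rw [← Subgroup.map_comap_eq_self_of_surjective (QuotientGroup.mk'_surjective M) K, ← h,
              QuotientGroup.map_mk'_self]
          · right
            rw [← Subgroup.map_comap_eq_self_of_surjective (QuotientGroup.mk'_surjective M) K, hMco.2 _ h,
              Subgroup.map_top_of_surjective _ (QuotientGroup.mk'_surjective M)]⟩
      haveI := (hP.to_quotient M).isNilpotent
      have hab : ∀ a b : P ⧸ M, a * b = b * a := IsSimpleGroup.comm_iff_isSolvable.2 inferInstance
      rw [Subgroup.commutator_le]
      intro a _ b _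
      rw [← QuotientGroup.eq_one_iff, ← QuotientGroup.mk'_apply, map_commutatorElement,
        commutatorElement_eq_one_iff_mul_comm]
      exact hab _ _
    obtain ⟨k, hk⟩ : ∃ k, k ∈ derivedSeries M m ∧ (k : P) = g := by
      have h1 : g ∈ dser (⊤ : Subgroup P) (m + 1) := by rw [dser_top]; exact hg
      rw [dser_succ] at h1
      have h2 := dser_mono hcomm m h1
      rw [← map_derivedSeries_subtype] at h2
      exact h2
    rw [← hk.2]
    have horbM : ∀ y : MulAction.orbit M x, Nat.card (MulAction.orbit M y) ≤ 2 ^ m := by
      intro y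
      refine (Finite.card_subtype_le _).trans ?_
      have e1 : (MulAction.stabilizer M x).index * M.index = (MulAction.stabilizer P x).index := by
        have h3 : MulAction.stabilizer M x = (MulAction.stabilizer P x).subgroupOf M := rfl
        rw [h3]
        exact Subgroup.relIndex_mul_index hle
      have e2 := horb x
      rw [Nat.card_coe_set_eq, ← MulAction.index_stabilizer] at e2
      rw [Nat.card_coe_set_eq, ← MulAction.index_stabilizer]
      have e3 : (MulAction.stabilizer M x).index * 2 ≤ 2 ^ m * 2 := by
        rw [← pow_succ]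
        exact ((Nat.mul_le_mul_left _ hidx).trans_eq e1).trans e2
      omega
    exact congrArg Subtype.val (ih M (hP.to_subgroup M) (MulAction.orbit M x) horbM k hk.1
      ⟨x, MulAction.mem_orbit_self x⟩)

theorem derivedSeries_perm {α : Type} [Finite α] (P : Subgroup (Equiv.Perm α)) (hP : IsPGroup 2 P) :
    derivedSeries P (Nat.log 2 (Nat.card α)) = ⊥ := by
  rw [eq_bot_iff]
  intro g hg
  refine Subgroup.mem_bot.2 (Subtype.ext (Equiv.ext fun x => ?_))
  refine derivedSeries_fix _ P hP α (fun y => ?_) g hg x
  obtain ⟨j, hj⟩ := hP.card_orbit y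
  rw [hj]
  have h0 : Nat.card α ≠ 0 := by
    have : Nonempty α := ⟨y⟩
    exact Nat.card_pos.ne'
  exact Nat.pow_le_pow_right two_pos
    (Nat.le_log_of_pow_le one_lt_two (hj ▸ Finite.card_subtype_le _))

end CfsgLib.SpSylowTwo
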