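import Mathlib

/-!
Embeddings `Sp(l₁) × Sp(l₂) → Sp(l₁ ⊕ l₂)` and `SL₂ⁿ ⋊ Sₙ → Sp(2n)`.
-/

set_option autoImplicit false

namespace CfsgLib.SpSylowTwo

open Matrix

variable {F : Type*} [Field F]
variable {l l' l₁ l₂ : Type*} [Fintype l] [DecidableEq l] [Fintype l'] [DecidableEq l']
  [Fintype l₁] [DecidableEq l₁] [Fintype l₂] [DecidableEq l₂]

theorem block_mem_iff (a b c d : Matrix l l F) :
    fromBlocks a b c d ∈ symplecticGroup l F ↔
      b * aᵀ + -(a * bᵀ) = 0 ∧ b * cᵀ + -(a * dᵀ) = -1 ∧ d * aᵀ + -(c * bᵀ) = 1 ∧ d * cᵀ + -(c * dᵀ) = 0 := by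
  rw [SymplecticGroup.mem_iff]
  simp only [J, fromBlocks_transpose, fromBlocks_multiply, Matrix.mul_zero, Matrix.mul_one, zero_add, add_zero,
    Matrix.mul_neg, Matrix.neg_mul, fromBlocks_inj]

/-- Renaming coordinates. -/
def spReindex (e : l ≃ l') : symplecticGroup l F →* symplecticGroup l' F where
  toFun g := ⟨Matrix.reindexAlgEquiv F F (e.sumCongr e) g.1, by
    have hJ : Matrix.reindexAlgEquiv F F (e.sumCongr e) (J l F) = J l' F := by
      ext i j
      rcases i with i | i <;> rcases j with j | j <;>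
        simp [J, Matrix.one_apply, e.symm.injective.eq_iff]
    have h := congrArg (Matrix.reindexAlgEquiv F F (e.sumCongr e)) (SymplecticGroup.mem_iff.1 g.2)
    rw [map_mul, map_mul, hJ] at h
    rw [SymplecticGroup.mem_iff]
    exact h⟩
  map_one' := Subtype.ext (map_one _)
  map_mul' g h := Subtype.ext (map_mul _ g.1 h.1)

theorem spReindex_injective (e : l ≃ l') : Function.Injective (spReindex (F := F) e) := fun g h hgh =>
  Subtype.ext ((Matrix.reindexAlgEquiv F F (e.sumCongr e)).injective (congrArg Subtype.val hgh))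

/-- Block diagonal sum of symplectic matrices. -/
def spSum : symplecticGroup l₁ F × symplecticGroup l₂ F →* symplecticGroup (l₁ ⊕ l₂) F where
  toFun g := ⟨fromBlocks (fromBlocks g.1.1.toBlocks₁₁ 0 0 g.2.1.toBlocks₁₁)
      (fromBlocks g.1.1.toBlocks₁₂ 0 0 g.2.1.toBlocks₁₂)
      (fromBlocks g.1.1.toBlocks₂₁ 0 0 g.2.1.toBlocks₂₁)
      (fromBlocks g.1.1.toBlocks₂₂ 0 0 g.2.1.toBlocks₂₂), by
    have h1 := g.1.2
    have h2 := g.2.2
    rw [← Matrix.fromBlocks_toBlocks g.1.1, block_mem_iff] at h1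
    rw [← Matrix.fromBlocks_toBlocks g.2.1, block_mem_iff] at h2
    rw [block_mem_iff]
    simp only [fromBlocks_transpose, fromBlocks_multiply, transpose_zero, Matrix.mul_zero, Matrix.zero_mul,
      add_zero, zero_add, fromBlocks_neg, fromBlocks_add, neg_zero, h1, h2]
    exact ⟨fromBlocks_zero, by simp [← fromBlocks_one, fromBlocks_neg], fromBlocks_one, fromBlocks_zero⟩⟩
  map_one' := by
    apply Subtype.ext
    show fromBlocks _ _ _ _ = (1 : Matrix ((l₁ ⊕ l₂) ⊕ (l₁ ⊕ l₂)) ((l₁ ⊕ l₂) ⊕ (l₁ ⊕ l₂)) F)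
    simp [← fromBlocks_one]
  map_mul' g h := by
    apply Subtype.ext
    show fromBlocks _ _ _ _ = fromBlocks _ _ _ _ * fromBlocks _ _ _ _
    have h1 : (g.1 * h.1).1 = fromBlocks g.1.1.toBlocks₁₁ g.1.1.toBlocks₁₂ g.1.1.toBlocks₂₁ g.1.1.toBlocks₂₂ *
        fromBlocks h.1.1.toBlocks₁₁ h.1.1.toBlocks₁₂ h.1.1.toBlocks₂₁ h.1.1.toBlocks₂₂ := by
      rw [fromBlocks_toBlocks, fromBlocks_toBlocks]; rfl
    have h2 : (g.2 * h.2).1 = fromBlocks g.2.1.toBlocks₁₁ g.2.1.toBlocks₁₂ g.2.1.toBlocks₂₁ g.2.1.toBlocks₂₂ *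
        fromBlocks h.2.1.toBlocks₁₁ h.2.1.toBlocks₁₂ h.2.1.toBlocks₂₁ h.2.1.toBlocks₂₂ := by
      rw [fromBlocks_toBlocks, fromBlocks_toBlocks]; rfl
    rw [fromBlocks_multiply] at h1 h2
    simp only [Prod.fst_mul, Prod.snd_mul, h1, h2, toBlocks_fromBlocks₁₁, toBlocks_fromBlocks₁₂,
      toBlocks_fromBlocks₂₁, toBlocks_fromBlocks₂₂, fromBlocks_multiply, Matrix.mul_zero, Matrix.zero_mul,
      add_zero, zero_add, fromBlocks_add]

theorem spSum_injective : Function.Injective (spSum (F := F) (l₁ := l₁) (l₂ := l₂)) := by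
  intro g h hgh
  have h' := congrArg Subtype.val hgh
  obtain ⟨ha, hb, hc, hd⟩ := fromBlocks_inj.1 h'
  obtain ⟨a1, -, -, a2⟩ := fromBlocks_inj.1 ha
  obtain ⟨b1, -, -, b2⟩ := fromBlocks_inj.1 hb
  obtain ⟨c1, -, -, c2⟩ := fromBlocks_inj.1 hc
  obtain ⟨d1, -, -, d2⟩ := fromBlocks_inj.1 hd
  refine Prod.ext (Subtype.ext ?_) (Subtype.ext ?_)
  · rw [← fromBlocks_toBlocks g.1.1, ← fromBlocks_toBlocks h.1.1, a1, b1, c1, d1]
  · rw [← fromBlocks_toBlocks g.2.1, ← fromBlocks_toBlocks h.2.1, a2, b2, c2, d2]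

/-- Exchanging the two summands. -/
def spSwap : symplecticGroup (l ⊕ l) F :=
  ⟨fromBlocks (fromBlocks 0 1 1 0) 0 0 (fromBlocks 0 1 1 0), by
    rw [block_mem_iff]
    simp [fromBlocks_transpose, fromBlocks_multiply, fromBlocks_neg, ← fromBlocks_one]⟩

theorem spSwap_mul_self : (spSwap : symplecticGroup (l ⊕ l) F) * spSwap = 1 := by
  apply Subtype.ext
  show fromBlocks _ _ _ _ * fromBlocks _ _ _ _ = (1 : Matrix ((l ⊕ l) ⊕ (l ⊕ l)) ((l ⊕ l) ⊕ (l ⊕ l)) F)
  simp [fromBlocks_multiply, ← fromBlocks_one]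

theorem spSwap_conj (a b : symplecticGroup l F) :
    spSwap * spSum (a, b) * spSwap = spSum (b, a) := by
  apply Subtype.ext
  show fromBlocks _ _ _ _ * fromBlocks _ _ _ _ * fromBlocks _ _ _ _ = fromBlocks _ _ _ _
  simp [fromBlocks_multiply]

section SL

open scoped MatrixGroups

variable {ι : Type*} [Fintype ι] [DecidableEq ι]

/-- A product of copies of `SL₂` as block diagonal symplectic matrices. -/
def slDiag : (ι → SL(2, F)) →* symplecticGroup ι F where
  toFun g := ⟨fromBlocks (diagonal fun i => g i 0 0) (diagonal fun i => g i 0 1) (diagonal fun i => g i 1 0)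
      (diagonal fun i => g i 1 1), by
    rw [block_mem_iff]
    simp only [diagonal_transpose, diagonal_mul_diagonal, diagonal_neg, diagonal_add, ← diagonal_one,
      ← diagonal_zero]
    have hd : ∀ i, g i 0 0 * g i 1 1 - g i 0 1 * g i 1 0 = 1 := fun i => by
      rw [← Matrix.det_fin_two]; exact (g i).det_coe
    refine ⟨?_, ?_, ?_, ?_⟩ <;> refine congrArg diagonal (funext fun i => ?_)
    · ring
    · linear_combination (-1 : F) * hd i
    · linear_combination hd i
    · ring⟩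
  map_one' := by
    apply Subtype.ext
    show fromBlocks _ _ _ _ = (1 : Matrix (ι ⊕ ι) (ι ⊕ ι) F)
    simp [← fromBlocks_one]
  map_mul' g h := by
    apply Subtype.ext
    show fromBlocks _ _ _ _ = fromBlocks _ _ _ _ * fromBlocks _ _ _ _
    have hm : ∀ (x : ι) (i j : Fin 2), (g * h) x i j = g x i 0 * h x 0 j + g x i 1 * h x 1 j := fun x i j => by
      show ((g x).1 * (h x).1) i j = _
      rw [Matrix.mul_apply, Fin.sum_univ_two]
    simp only [hm, fromBlocks_multiply, diagonal_mul_diagonal, diagonal_add]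

theorem slDiag_injective : Function.Injective (slDiag (F := F) (ι := ι)) := by
  intro g h hgh
  obtain ⟨ha, hb, hc, hd⟩ := fromBlocks_inj.1 (congrArg Subtype.val hgh :)
  refine funext fun x => Matrix.SpecialLinearGroup.ext _ _ fun i j => ?_
  fin_cases i <;> fin_cases j
  · exact congrFun (diagonal_injective ha) x
  · exact congrFun (diagonal_injective hb) x
  · exact congrFun (diagonal_injective hc) x
  · exact congrFun (diagonal_injective hd) x

/-- Permutation matrices in the symplectic group. -/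
def spPerm : Equiv.Perm ι →* symplecticGroup ι F where
  toFun σ := ⟨fromBlocks σ⁻¹.toPEquiv.toMatrix 0 0 σ⁻¹.toPEquiv.toMatrix, by
    rw [block_mem_iff]
    have h : (σ⁻¹.toPEquiv.toMatrix : Matrix ι ι F) * (σ⁻¹.toPEquiv.toMatrix)ᵀ = 1 := by
      rw [← PEquiv.toMatrix_symm, ← Equiv.toPEquiv_symm, ← PEquiv.toMatrix_trans, ← Equiv.toPEquiv_trans]
      simp [PEquiv.toMatrix_refl]
    refine ⟨?_, ?_, ?_, ?_⟩ <;>
      simp only [Matrix.transpose_zero, Matrix.mul_zero, Matrix.zero_mul, h, neg_zero, add_zero, zero_add]⟩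
  map_one' := by
    apply Subtype.ext
    show fromBlocks _ _ _ _ = (1 : Matrix (ι ⊕ ι) (ι ⊕ ι) F)
    rw [inv_one]
    simp [PEquiv.toMatrix_refl, Equiv.Perm.one_def]
  map_mul' σ τ := by
    apply Subtype.ext
    show fromBlocks _ _ _ _ = fromBlocks _ _ _ _ * fromBlocks _ _ _ _
    simp only [fromBlocks_multiply, Matrix.mul_zero, Matrix.zero_mul, add_zero, zero_add, ← PEquiv.toMatrix_trans,
      ← Equiv.toPEquiv_trans, _root_.mul_inv_rev]
    rfl

/-- Permuting the coordinates of a tuple. -/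
def permAut (Q : Type*) [Group Q] : Equiv.Perm ι →* MulAut (ι → Q) where
  toFun σ :=
    { toFun := fun g i => g (σ⁻¹ i)
      invFun := fun g i => g (σ i)
      left_inv := fun g => funext fun i => congrArg g (σ.symm_apply_apply i)
      right_inv := fun g => funext fun i => congrArg g (σ.apply_symm_apply i)
      map_mul' := fun g h => rfl }
  map_one' := rfl
  map_mul' σ τ := rfl

theorem spPerm_conj (σ : Equiv.Perm ι) (g : ι → SL(2, F)) :
    slDiag (permAut SL(2, F) σ g) = spPerm σ * slDiag g * (spPerm σ)⁻¹ := by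
  rw [eq_mul_inv_iff_mul_eq]
  apply Subtype.ext
  show fromBlocks _ _ _ _ * fromBlocks _ _ _ _ = fromBlocks _ _ _ _ * fromBlocks _ _ _ _
  simp only [fromBlocks_multiply, Matrix.mul_zero, Matrix.zero_mul, add_zero, zero_add]
  have h : ∀ k : Fin 2, ∀ k' : Fin 2,
      (diagonal fun i => permAut SL(2, F) σ g i k k') * (σ⁻¹.toPEquiv.toMatrix : Matrix ι ι F) =
        σ⁻¹.toPEquiv.toMatrix * diagonal fun i => g i k k' := by
    intro k k'
    ext i j
    rw [Matrix.diagonal_mul, Matrix.mul_diagonal]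
    by_cases hij : σ⁻¹ i = j
    · subst hij; simp [permAut, mul_comm]
    · have h0 : (σ⁻¹.toPEquiv.toMatrix : Matrix ι ι F) i j = 0 := by
        rw [PEquiv.toMatrix_apply]; exact if_neg fun h => hij (Option.some.inj h)
      rw [h0, mul_zero, zero_mul]
  simp only [h]

/-- `SL₂ⁿ ⋊ Sₙ → Sp(2n)` restricted along subgroups. -/
def wreathSp {Q : Type*} [Group Q] (q : Q →* SL(2, F)) (P : Subgroup (Equiv.Perm ι)) :
    (ι → Q) ⋊[(permAut Q).comp P.subtype] P →* symplecticGroup ι F :=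
  SemidirectProduct.lift (slDiag.comp (q.compLeft ι)) (spPerm.comp P.subtype) fun σ => by
    ext1 g
    show slDiag (permAut SL(2, F) σ.1 (q.compLeft ι g)) = _
    rw [spPerm_conj]
    rfl

theorem wreathSp_injective {Q : Type*} [Group Q] (q : Q →* SL(2, F)) (hq : Function.Injective q)
    (P : Subgroup (Equiv.Perm ι)) : Function.Injective (wreathSp q P) := by
  rw [injective_iff_map_eq_one]
  intro x hx
  have h : slDiag (q.compLeft ι x.left) * spPerm x.right.1 = 1 := hx
  have hσ : x.right.1 = 1 := by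
    refine inv_eq_one.1 (Equiv.ext fun i => ?_)
    by_contra hne
    have h' := congrArg Subtype.val (eq_inv_of_mul_eq_one_right h)
    rw [← map_inv] at h'
    obtain ⟨ha, hb, hc, hd⟩ := fromBlocks_inj.1 h'
    have h1 := congrFun (congrFun ha i) ((x.right.1)⁻¹ i)
    change ¬ (x.right.1)⁻¹ i = i at hne
    rw [Matrix.diagonal_apply_ne' _ hne] at h1
    simp [PEquiv.toMatrix_apply] at h1
  rw [hσ, map_one, mul_one, ← map_one (slDiag (F := F) (ι := ι))] at h
  have h2 := slDiag_injective h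
  refine SemidirectProduct.ext (funext fun i => hq ?_) (Subtype.ext hσ)
  rw [SemidirectProduct.one_left, Pi.one_apply, map_one]
  exact congrFun h2 i

end SL

end CfsgLib.SpSylowTwo
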