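import Mathlib
import Cfsg.Agent.Lib.SpSylowTwo.Derived
import Cfsg.Agent.Lib.SpSylowTwo.Embed
import Cfsg.Agent.Lib.Linear.SL2Quaternion
import Cfsg.Agent.Lib.Linear.SympCard
import Cfsg.Agent.Lib.Linear.Card

/-!
The derived length of a Sylow 2-subgroup of `Sp_{2n}(q)`, `q` odd.
-/

set_option autoImplicit false

namespace CfsgLib.SpSylowTwo

open Matrix
open scoped MatrixGroups commutatorElement

variable {F : Type*} [Field F]

/-- There is a 2-subgroup with nontrivial `L`-th derived group. -/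
def HasDepth (G : Type*) [Group G] (L : ℕ) : Prop :=
  ∃ H : Subgroup G, IsPGroup 2 H ∧ dser H L ≠ ⊥

theorem HasDepth.map {G G' : Type*} [Group G] [Group G'] (f : G →* G') (hf : Function.Injective f) {L : ℕ}
    (h : HasDepth G L) : HasDepth G' L := by
  obtain ⟨H, hH, hL⟩ := h
  exact ⟨H.map f, hH.map f, by rwa [← map_dser, Ne, Subgroup.map_eq_bot_iff_of_injective _ hf]⟩

theorem HasDepth.double {l : Type*} [Fintype l] [DecidableEq l] {L : ℕ}
    (h : HasDepth (symplecticGroup l F) L) : HasDepth (symplecticGroup (l ⊕ l) F) (L + 1) := by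
  obtain ⟨H, hH, hL⟩ := h
  let j : symplecticGroup l F × symplecticGroup l F →* symplecticGroup (l ⊕ l) F := spSum
  let s : symplecticGroup (l ⊕ l) F := spSwap
  have hs2 : s * s = 1 := spSwap_mul_self
  have hsinv : s⁻¹ = s := inv_eq_of_mul_eq_one_right hs2
  have hB : IsPGroup 2 (H.prod H) := by
    intro x
    obtain ⟨a, ha⟩ := hH ⟨x.1.1, x.2.1⟩
    obtain ⟨b, hb⟩ := hH ⟨x.1.2, x.2.2⟩
    refine ⟨a + b, Subtype.ext (Prod.ext ?_ ?_)⟩
    · show x.1.1 ^ 2 ^ (a + b) = 1
      rw [pow_add, pow_mul, show x.1.1 ^ 2 ^ a = 1 from congrArg Subtype.val ha, one_pow]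
    · show x.1.2 ^ 2 ^ (a + b) = 1
      rw [add_comm, pow_add, pow_mul, show x.1.2 ^ 2 ^ b = 1 from congrArg Subtype.val hb, one_pow]
  have hS : IsPGroup 2 (Subgroup.zpowers s) := by
    intro x
    obtain ⟨k, hk⟩ := x.2
    refine ⟨1, Subtype.ext ?_⟩
    show x.1 ^ 2 ^ 1 = 1
    rw [← hk, pow_one, ← zpow_natCast, ← _root_.zpow_mul, mul_comm, _root_.zpow_mul, zpow_natCast, sq, hs2, _root_.one_zpow]
  let B := (H.prod H).map j
  have hnorm : Subgroup.zpowers s ≤ Subgroup.normalizer (B : Set (symplecticGroup (l ⊕ l) F)) := by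
    rw [Subgroup.zpowers_le, Subgroup.mem_normalizer_iff]
    have h1 : ∀ x ∈ B, s * x * s⁻¹ ∈ B := by
      rintro x ⟨⟨a, b⟩, ⟨ha, hb⟩, rfl⟩
      exact ⟨(b, a), ⟨hb, ha⟩, by rw [hsinv]; exact (spSwap_conj a b).symm⟩
    intro x
    refine ⟨h1 x, fun hx => ?_⟩
    have := h1 _ hx
    rwa [hsinv, ← mul_assoc, ← mul_assoc, hs2, one_mul, mul_assoc, hs2, mul_one] at this
  let T := B ⊔ Subgroup.zpowers s
  refine ⟨T, (hB.map j).to_sup_of_normal_left' hS hnorm, ?_⟩
  rw [dser_succ]
  let K := (⁅T, T⁆).comap j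
  have hK : H ≤ K.map (MonoidHom.fst (symplecticGroup l F) (symplecticGroup l F)) := by
    intro a ha
    refine ⟨(a, a⁻¹), ?_, rfl⟩
    show j (a, a⁻¹) ∈ ⁅T, T⁆
    have h1 : ⁅j (a, 1), s⁆ = j (a, a⁻¹) := by
      rw [commutatorElement_def, hsinv]
      calc j (a, 1) * s * (j (a, 1))⁻¹ * s = j (a, 1) * (s * j (a⁻¹, 1) * s) := by
            rw [← map_inv, Prod.inv_mk, inv_one, mul_assoc, mul_assoc, mul_assoc]
        _ = j (a, a⁻¹) := by
            rw [show s * j (a⁻¹, 1) * s = j (1, a⁻¹) from spSwap_conj a⁻¹ 1, ← map_mul, Prod.mk_mul_mk,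
              mul_one, one_mul]
    rw [← h1]
    exact Subgroup.commutator_mem_commutator (le_sup_left (a := B) ⟨(a, 1), ⟨ha, H.one_mem⟩, rfl⟩)
      (le_sup_right (b := Subgroup.zpowers s) (Subgroup.mem_zpowers s))
  intro h0
  have h1 : dser (K.map j) L = ⊥ := eq_bot_iff.2 ((dser_mono (Subgroup.map_comap_le _ _) L).trans h0.le)
  rw [← map_dser, Subgroup.map_eq_bot_iff_of_injective _ spSum_injective] at h1
  have h2 := dser_mono hK L
  rw [← map_dser, h1, Subgroup.map_bot, le_bot_iff] at h2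
  exact hL h2

variable [Fintype F]

theorem hasDepth_one (hF : Odd (Fintype.card F)) : HasDepth (symplecticGroup (Fin 1) F) 1 := by
  classical
  let Q : Sylow 2 SL(2, F) := default
  let f : ↥(Q : Subgroup SL(2, F)) →* symplecticGroup (Fin 1) F :=
    slDiag.comp (MonoidHom.pi fun _ : Fin 1 => (Q : Subgroup SL(2, F)).subtype)
  have hf : Function.Injective f := fun a b h =>
    Subtype.ext (congrFun (slDiag_injective h) 0)
  refine ⟨f.range, Q.isPGroup'.of_surjective f.rangeRestrict f.rangeRestrict_surjective, ?_⟩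
  rw [dser_range, Ne, Subgroup.map_eq_bot_iff_of_injective _ hf, derivedSeries_one]
  intro h
  obtain ⟨k, hk, ⟨e⟩⟩ := CfsgLib.Linear.sylow_two_SL2_quaternion hF Q
  have hc : ∀ a b : ↥(Q : Subgroup SL(2, F)), a * b = b * a := fun a b => by
    rw [← commutatorElement_eq_one_iff_mul_comm, ← Subgroup.mem_bot, ← h]
    exact Subgroup.commutator_mem_commutator (Subgroup.mem_top a) (Subgroup.mem_top b)
  have := congrArg e (hc (e.symm (.a 1)) (e.symm (.xa 0)))
  simp only [map_mul, MulEquiv.apply_symm_apply, QuaternionGroup.a_mul_xa, QuaternionGroup.xa_mul_a,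
    QuaternionGroup.xa.injEq, zero_sub, zero_add] at this
  have h2 : ((2 : ℕ) : ZMod (2 * 2 ^ k)) = 0 := by push_cast; linear_combination -this
  rw [ZMod.natCast_eq_zero_iff] at h2
  have := Nat.le_of_dvd two_pos h2
  have := Nat.pow_le_pow_right two_pos hk
  omega

theorem hasDepth_pow (hF : Odd (Fintype.card F)) :
    ∀ e : ℕ, HasDepth (symplecticGroup (Fin (2 ^ e)) F) (e + 1)
  | 0 => hasDepth_one hF
  | e + 1 => ((hasDepth_pow hF e).double).map
      (spReindex (finSumFinEquiv.trans (finCongr (by rw [pow_succ, mul_two])))) (spReindex_injective _)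

theorem hasDepth_log (hF : Odd (Fintype.card F)) {n : ℕ} (hn : 1 ≤ n) :
    HasDepth (symplecticGroup (Fin n) F) (Nat.log 2 n + 1) := by
  have h := Nat.pow_log_le_self 2 (by omega : n ≠ 0)
  refine ((hasDepth_pow hF _).map
    (spSum.comp (MonoidHom.inl (symplecticGroup (Fin (2 ^ Nat.log 2 n)) F)
      (symplecticGroup (Fin (n - 2 ^ Nat.log 2 n)) F))) (spSum_injective.comp fun a b h => ?_)).map
    (spReindex (finSumFinEquiv.trans (finCongr (Nat.add_sub_cancel' h)))) (spReindex_injective _)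
  exact congrArg Prod.fst h

omit [Field F] [Fintype F] in
theorem factorization_sq_pow {q : ℕ} (hq1 : 1 < q) (hq : Odd q) {j : ℕ} (hj : j ≠ 0) :
    (q ^ (2 * j) - 1).factorization 2 = (q ^ 2 - 1).factorization 2 + j.factorization 2 := by
  haveI : Fact (Nat.Prime 2) := ⟨Nat.prime_two⟩
  simp only [Nat.factorization_def _ Nat.prime_two]
  have h2 : ¬ 2 ∣ q := fun h => (Nat.not_even_iff_odd.2 hq) (even_iff_two_dvd.2 h)
  have hdvd : 2 ∣ q - 1 := by obtain ⟨t, ht⟩ := hq; omega
  have hA := padicValNat.pow_two_sub_pow (x := q) (y := 1) hq1 hdvd h2 (n := 2 * j) (by omega) (even_two_mul j)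
  have hB := padicValNat.pow_two_sub_pow (x := q) (y := 1) hq1 hdvd h2 (n := 2) two_ne_zero even_two
  rw [one_pow] at hA hB
  rw [padicValNat.mul two_ne_zero hj, padicValNat.self one_lt_two] at hA
  rw [padicValNat.self one_lt_two] at hB
  omega

theorem factorization_card_symplectic (hF : Odd (Fintype.card F)) (n : ℕ) :
    (Nat.card (symplecticGroup (Fin n) F)).factorization 2 =
      n * (Nat.card SL(2, F)).factorization 2 + n.factorial.factorization 2 := by
  classical
  set q := Fintype.card F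
  have hq1 : 1 < q := Fintype.one_lt_card
  have hne : ∀ k : ℕ, q ^ (2 * (k + 1)) - 1 ≠ 0 := fun k => by
    have := Nat.one_lt_pow (n := 2 * (k + 1)) (by omega) hq1
    omega
  have h2 : ¬ 2 ∣ q := fun h => (Nat.not_even_iff_odd.2 hF) (even_iff_two_dvd.2 h)
  have hSL : (Nat.card SL(2, F)).factorization 2 = (q ^ 2 - 1).factorization 2 := by
    rw [CfsgLib.Linear.card_SL_two, Nat.factorization_mul (by omega) (by have := hne 0; simpa using this),
      Finsupp.add_apply, Nat.factorization_eq_zero_of_not_dvd h2, zero_add]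
  rw [CfsgLib.Linear.Symp.card_symplectic, Nat.factorization_mul (pow_ne_zero _ (by omega))
      (Finset.prod_ne_zero_iff.2 fun k _ => hne k), Finsupp.add_apply,
    Nat.factorization_eq_zero_of_not_dvd (fun h => h2 (Nat.prime_two.dvd_of_dvd_pow h)), zero_add,
    Nat.factorization_prod fun k _ => hne k, Finsupp.finsetSum_apply, hSL]
  induction n with
  | zero => simp
  | succ n ih =>
    rw [Finset.sum_range_succ, ih, factorization_sq_pow hq1 hF (Nat.succ_ne_zero n), Nat.factorial_succ,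
      Nat.factorization_mul (Nat.succ_ne_zero n) n.factorial_ne_zero, Finsupp.add_apply]
    ring

theorem derived_length_sylow_two (hF : Odd (Fintype.card F)) {n : ℕ} (hn : 1 ≤ n)
    (R : Sylow 2 (symplecticGroup (Fin n) F)) :
    derivedSeries ↥(R : Subgroup (symplecticGroup (Fin n) F)) (Nat.log 2 n + 2) = ⊥ ∧
      derivedSeries ↥(R : Subgroup (symplecticGroup (Fin n) F)) (Nat.log 2 n + 1) ≠ ⊥ := by
  classical
  haveI : Fact (Nat.Prime 2) := ⟨Nat.prime_two⟩
  constructor
  · let Q : Sylow 2 SL(2, F) := default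
    let P : Sylow 2 (Equiv.Perm (Fin n)) := default
    let W := (Fin n → ↥(Q : Subgroup SL(2, F))) ⋊[(permAut ↥(Q : Subgroup SL(2, F))).comp
      (P : Subgroup (Equiv.Perm (Fin n))).subtype] ↥(P : Subgroup (Equiv.Perm (Fin n)))
    let Ψ : W →* symplecticGroup (Fin n) F := wreathSp (Q : Subgroup SL(2, F)).subtype _
    have hΨ : Function.Injective Ψ := wreathSp_injective _ Subtype.val_injective _
    have hcard : Nat.card Ψ.range = 2 ^ (Nat.card (symplecticGroup (Fin n) F)).factorization 2 := by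
      rw [← Nat.card_congr (MonoidHom.ofInjective hΨ).toEquiv, SemidirectProduct.card, Nat.card_fun,
        Sylow.card_eq_multiplicity, Sylow.card_eq_multiplicity, factorization_card_symplectic hF, pow_add,
        ← pow_mul, Nat.card_fin, mul_comm n, Nat.card_perm, Nat.card_fin]
    let R₀ : Sylow 2 (symplecticGroup (Fin n) F) := Sylow.ofCard Ψ.range hcard
    obtain ⟨g, hg⟩ := MulAction.exists_smul_eq (symplecticGroup (Fin n) F) R₀ R
    rw [derivedSeries_eq_bot_iff, ← hg, Sylow.coe_subgroup_smul]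
    show dser (Ψ.range.map (MulAut.conj g).toMonoidHom) _ = ⊥
    rw [← map_dser, Subgroup.map_eq_bot_iff_of_injective _ (MulAut.conj g).injective, dser_range,
      Subgroup.map_eq_bot_iff_of_injective _ hΨ]
    have hright : dser (⊤ : Subgroup W) (Nat.log 2 n) ≤ (SemidirectProduct.inl).range := by
      rw [SemidirectProduct.range_inl_eq_ker_rightHom, ← Subgroup.map_eq_bot_iff, map_dser,
        ← MonoidHom.range_eq_map, MonoidHom.range_eq_top.2 SemidirectProduct.rightHom_surjective, dser_top]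
      have := derivedSeries_perm (P : Subgroup (Equiv.Perm (Fin n))) P.isPGroup'
      rw [Nat.card_fin] at this
      rw [this]
    rw [← dser_top, dser_add, eq_bot_iff]
    refine (dser_mono hright 2).trans ?_
    rw [dser_range, Subgroup.map_le_iff_le_comap]
    intro x hx
    show SemidirectProduct.inl x ∈ (⊥ : Subgroup W)
    suffices x = 1 by rw [this, map_one]; exact Subgroup.one_mem _
    funext i
    obtain ⟨k, -, ⟨e⟩⟩ := CfsgLib.Linear.sylow_two_SL2_quaternion hF Q
    haveI : NeZero (2 ^ k) := ⟨pow_ne_zero _ two_ne_zero⟩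
    have h1 := map_derivedSeries_le_derivedSeries
      (e.toMonoidHom.comp (Pi.evalMonoidHom (fun _ : Fin n => ↥(Q : Subgroup SL(2, F))) i)) 2 ⟨x, hx, rfl⟩
    rw [derivedSeries_quaternion, Subgroup.mem_bot] at h1
    exact e.map_eq_one_iff.1 h1
  · obtain ⟨H, hH, hL⟩ := hasDepth_log hF hn
    obtain ⟨S, hS⟩ := hH.exists_le_sylow
    obtain ⟨g, hg⟩ := MulAction.exists_smul_eq (symplecticGroup (Fin n) F) R S
    rw [Ne, derivedSeries_eq_bot_iff]
    intro h
    refine hL (eq_bot_iff.2 ((dser_mono hS _).trans (le_of_eq ?_)))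
    rw [← hg, Sylow.coe_subgroup_smul]
    show dser ((R : Subgroup _).map (MulAut.conj g).toMonoidHom) _ = ⊥
    rw [← map_dser, h, Subgroup.map_bot]

end CfsgLib.SpSylowTwo
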